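import Mathlib

/-!
# Cross sections of rational actions of the additive and multiplicative groups, on function fields
-/

set_option autoImplicit false
set_option linter.all false
universe u

open Polynomial

noncomputable section

namespace RosCrossLib

variable {k K : Type u} [Field k] [Field K] [Algebra k K]

/-- the field of rational functions -/
abbrev RF (K : Type u) [Field K] : Type u := FractionRing K[X]

/-- polynomials as rational functions -/
abbrev ι (P : K[X]) : RF K := algebraMap K[X] (RF K) P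

/-- the variable -/
abbrev T (K : Type u) [Field K] : RF K := ι (X : K[X])

/-- constants -/
abbrev cst (K : Type u) [Field K] : K →+* RF K := algebraMap K (RF K)

lemma ι_C (a : K) : ι (C a) = cst K a := (IsScalarTower.algebraMap_apply K K[X] (RF K) a).symm

lemma ι_injective : Function.Injective (ι : K[X] → RF K) := IsFractionRing.injective K[X] (RF K)

lemma cst_injective : Function.Injective (cst K) := (cst K).injective

lemma eval₂_T (P : K[X]) : P.eval₂ (cst K) (T K) = ι P := by
  change P.eval₂ (algebraMap K (RF K)) (algebraMap K[X] (RF K) X) = algebraMap K[X] (RF K) P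
  rw [← aeval_def, aeval_algebraMap_apply, aeval_X_left_apply]

lemma transcendental_ι {P : K[X]} (h : 0 < P.natDegree) {p : K[X]} (hp : p.eval₂ (cst K) (ι P) = 0) : p = 0 := by
  have e : p.eval₂ (cst K) (ι P) = ι (p.comp P) := by
    change p.eval₂ (algebraMap K (RF K)) (algebraMap K[X] (RF K) P) = algebraMap K[X] (RF K) _
    rw [← aeval_def, aeval_algebraMap_apply, comp_eq_aeval]
  rw [e] at hp
  have h0 : p.comp P = 0 := ι_injective (hp.trans (map_zero _).symm)
  rcases comp_eq_zero_iff.1 h0 with h1 | ⟨_, h1⟩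
  · exact h1
  · rw [h1, natDegree_C] at h
    exact absurd h (lt_irrefl 0)

lemma exists_reduced (x : RF K) :
    ∃ P Q : K[X], IsCoprime P Q ∧ Q.Monic ∧ x * ι Q = ι P := by
  let a := IsFractionRing.num K[X] x
  let b : K[X] := IsFractionRing.den K[X] x
  have hb : b ≠ 0 := nonZeroDivisors.coe_ne_zero _
  have hab : IsCoprime a b := (IsFractionRing.num_den_reduced K[X] x).isCoprime
  have hx : x * ι b = ι a := IsFractionRing.num_mul_den_eq_num_iff_eq.2 rfl
  have hl : b.leadingCoeff ≠ 0 := leadingCoeff_ne_zero.2 hb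
  refine ⟨a * C b.leadingCoeff⁻¹, b * C b.leadingCoeff⁻¹, ?_, monic_mul_leadingCoeff_inv hb, ?_⟩
  · exact (isCoprime_mul_unit_right (isUnit_C.2 (isUnit_iff_ne_zero.2 (inv_ne_zero hl))) a b).2 hab
  · simp only [ι, map_mul] at hx ⊢
    rw [← mul_assoc, hx]

/-- The conditions satisfied by the comorphism of a rational action. -/
structure IsCoaction (φ : K →ₐ[k] RF K) (op : (RF K)[X]) (c : K) : Prop where
  comp : ∀ (f : K) (P Q : K[X]), φ f * ι Q = ι P →
    P.map φ.toRingHom * (Q.map (cst K)).comp op = (P.map (cst K)).comp op * Q.map φ.toRingHom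
  unit : ∀ f : K, ∃ P Q : K[X], φ f * ι Q = ι P ∧ Q.eval c ≠ 0 ∧ P.eval c = f * Q.eval c

variable {φ : K →ₐ[k] RF K} {op : (RF K)[X]} {c : K}

lemma IsCoaction.reduced (h : IsCoaction φ op c) (f : K) :
    ∃ P Q : K[X], IsCoprime P Q ∧ Q.Monic ∧ φ f * ι Q = ι P ∧ Q.eval c ≠ 0 ∧ f = P.eval c / Q.eval c ∧
      Associated ((Q.map (cst K)).comp op) (Q.map φ.toRingHom) ∧
      P.map φ.toRingHom * (Q.map (cst K)).comp op = (P.map (cst K)).comp op * Q.map φ.toRingHom := by
  obtain ⟨P, Q, hcop, hm, he⟩ := exists_reduced (φ f)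
  obtain ⟨P₀, Q₀, he₀, hq₀, hp₀⟩ := h.unit f
  have hcross : P * Q₀ = P₀ * Q := ι_injective (by
    simp only [ι, map_mul] at he he₀ ⊢
    linear_combination (algebraMap K[X] (RF K) Q) * he₀ - (algebraMap K[X] (RF K) Q₀) * he)
  obtain ⟨d, rfl⟩ : Q ∣ Q₀ := hcop.symm.dvd_of_dvd_mul_left (Dvd.intro_left P₀ hcross.symm)
  rw [eval_mul, mul_ne_zero_iff] at hq₀
  have hev : P₀.eval c = P.eval c * d.eval c := by
    have := congrArg (eval c) hcross
    simp only [eval_mul] at this
    exact mul_left_cancel₀ hq₀.1 (by linear_combination -this)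
  have hc := h.comp f P Q he
  refine ⟨P, Q, hcop, hm, he, hq₀.1, ?_, ?_, hc⟩
  · rw [eq_div_iff hq₀.1]
    refine mul_right_cancel₀ hq₀.2 ?_
    rw [← hev, hp₀, eval_mul, mul_assoc]
  · have c1 : IsCoprime (P.map φ.toRingHom) (Q.map φ.toRingHom) := hcop.map (mapRingHom φ.toRingHom)
    have c2 : IsCoprime ((P.map (cst K)).comp op) ((Q.map (cst K)).comp op) :=
      (hcop.map (mapRingHom (cst K))).map (compRingHom op)
    exact associated_of_dvd_dvd (c2.symm.dvd_of_dvd_mul_left (Dvd.intro_left _ hc))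
      (c1.symm.dvd_of_dvd_mul_left (Dvd.intro_left _ hc.symm))

/-- invariant elements -/
def invField (φ : K →ₐ[k] RF K) : IntermediateField k K where
  carrier := {f | φ f = cst K f}
  mul_mem' := fun {a b} ha hb => by simp only [Set.mem_setOf_eq, map_mul] at *; rw [ha, hb]
  one_mem' := by simp
  add_mem' := fun {a b} ha hb => by simp only [Set.mem_setOf_eq, map_add] at *; rw [ha, hb]
  zero_mem' := by simp
  algebraMap_mem' := fun a => by
    change φ (algebraMap k K a) = _
    rw [φ.commutes]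
    exact IsScalarTower.algebraMap_apply k K (RF K) a
  inv_mem' := fun a ha => by simp only [Set.mem_setOf_eq, map_inv₀] at *; rw [ha]

lemma transcendental_of {φ : K →ₐ[k] RF K} {s : K} {R : RF K}
    (hR : φ s = R) (htr : ∀ p : K[X], p.eval₂ (cst K) R = 0 → p = 0) :
    Transcendental (invField φ) s := by
  rintro ⟨p, hp0, hp⟩
  refine hp0 (Polynomial.map_injective (algebraMap (invField φ) K) (algebraMap (invField φ) K).injective ?_)
  rw [Polynomial.map_zero]
  refine htr _ ?_
  have h1 := congrArg φ hp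
  rw [map_zero, aeval_def] at h1
  rw [← hR, eval₂_map, ← h1]
  change _ = φ.toRingHom (p.eval₂ _ s)
  rw [hom_eval₂]
  congr 1
  ext a
  exact a.2.symm

/-- Cross section for the multiplicative group. -/
theorem exists_section_mul (h : IsCoaction φ (C (T K) * X) 1) (hne : ∃ f, φ f ≠ cst K f) :
    ∃ (L : IntermediateField k K) (s : K), Transcendental L s ∧ IntermediateField.adjoin L {s} = ⊤ := by
  classical
  have hT : T K ≠ 0 := fun e => X_ne_zero (R := K) (ι_injective (e.trans (map_zero _).symm))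
  let Eig : ℤ → Set K := fun n => {f | φ f = T K ^ n * cst K f}
  let W : AddSubgroup ℤ :=
    { carrier := {n | ∃ f ∈ Eig n, f ≠ 0}
      add_mem' := fun {a b} ⟨f, hf, hf0⟩ ⟨g, hg, hg0⟩ => ⟨f * g, by
        simp only [Eig, Set.mem_setOf_eq, map_mul] at *
        rw [hf, hg, zpow_add₀ hT]; ring, mul_ne_zero hf0 hg0⟩
      zero_mem' := ⟨1, by simp [Eig], one_ne_zero⟩
      neg_mem' := fun {a} ⟨f, hf, hf0⟩ => ⟨f⁻¹, by
        simp only [Eig, Set.mem_setOf_eq, map_inv₀] at *
        rw [hf, mul_inv, zpow_neg], inv_ne_zero hf0⟩ }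
  have hdec : ∀ f : K, ∃ (P Q : K[X]), Q.eval 1 ≠ 0 ∧ f = P.eval 1 / Q.eval 1 ∧
      (∀ i, P.coeff i = 0 ∨ ∃ n ∈ W, P.coeff i ∈ Eig n) ∧ ∀ i, Q.coeff i = 0 ∨ ∃ n ∈ W, Q.coeff i ∈ Eig n := by
    intro f
    obtain ⟨P, Q, hcop, hm, he, hq, hf, ⟨w, hw⟩, hc⟩ := h.reduced f
    refine ⟨P, Q, hq, hf, ?_⟩
    obtain ⟨w₀, hw₀, hw₀'⟩ := isUnit_iff.1 w.isUnit
    have hQ : (Q.map (cst K)).comp (C (T K) * X) * C w₀ = Q.map φ.toRingHom := by rw [hw₀']; exact hw
    have hlead : T K ^ Q.natDegree * w₀ = 1 := by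
      have := congrArg (fun p : (RF K)[X] => p.coeff Q.natDegree) hQ
      simp only [coeff_mul_C, comp_C_mul_X_coeff, coeff_map, hm.coeff_natDegree, map_one, one_mul] at this
      exact this
    have hcq : ∀ i, φ (Q.coeff i) = T K ^ ((i : ℤ) - Q.natDegree) * cst K (Q.coeff i) := fun i => by
      have := congrArg (fun p : (RF K)[X] => p.coeff i) hQ
      simp only [coeff_mul_C, comp_C_mul_X_coeff, coeff_map] at this
      change _ = φ (Q.coeff i) at this
      rw [← this, zpow_sub₀ hT, zpow_natCast, zpow_natCast, eq_inv_of_mul_eq_one_right hlead]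
      ring
    have hP : P.map φ.toRingHom = (P.map (cst K)).comp (C (T K) * X) * C w₀ := by
      refine mul_right_cancel₀ ((hm.map φ.toRingHom).ne_zero) ?_
      conv_lhs => rw [← hQ]
      linear_combination C w₀ * hc
    have hcp : ∀ i, φ (P.coeff i) = T K ^ ((i : ℤ) - Q.natDegree) * cst K (P.coeff i) := fun i => by
      have := congrArg (fun p : (RF K)[X] => p.coeff i) hP
      simp only [coeff_mul_C, comp_C_mul_X_coeff, coeff_map] at this
      change φ (P.coeff i) = _ at this
      rw [this, zpow_sub₀ hT, zpow_natCast, zpow_natCast, eq_inv_of_mul_eq_one_right hlead]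
      ring
    refine ⟨fun i => ?_, fun i => ?_⟩
    · by_cases h0 : P.coeff i = 0
      · exact Or.inl h0
      · exact Or.inr ⟨_, ⟨_, hcp i, h0⟩, hcp i⟩
    · by_cases h0 : Q.coeff i = 0
      · exact Or.inl h0
      · exact Or.inr ⟨_, ⟨_, hcq i, h0⟩, hcq i⟩
  obtain ⟨d, hd⟩ := Int.subgroup_cyclic W
  obtain ⟨s, hs, hs0⟩ := (hd ▸ AddSubgroup.subset_closure rfl : d ∈ W)
  let M := IntermediateField.adjoin (invField φ) {s}
  have hsM : s ∈ M := IntermediateField.mem_adjoin_simple_self _ _
  have hE : ∀ n ∈ W, ∀ g ∈ Eig n, g ∈ M := by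
    intro n hn g hg
    rw [hd, AddSubgroup.mem_closure_singleton] at hn
    obtain ⟨m, rfl⟩ := hn
    have hinv : g * (s ^ m)⁻¹ ∈ invField φ := by
      change φ (g * (s ^ m)⁻¹) = cst K (g * (s ^ m)⁻¹)
      simp only [Eig, Set.mem_setOf_eq] at hg hs
      have : T K ^ (d * m) ≠ 0 := zpow_ne_zero _ hT
      rw [map_mul, map_inv₀, map_zpow₀, hg, hs, mul_zpow, ← zpow_mul, smul_eq_mul, mul_comm m d, map_mul,
        map_inv₀, map_zpow₀]
      field_simp
    have e : g = (g * (s ^ m)⁻¹) * s ^ m := by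
      rw [mul_assoc, inv_mul_cancel₀ (zpow_ne_zero _ hs0), mul_one]
    rw [e]
    exact mul_mem (M.algebraMap_mem ⟨_, hinv⟩) (zpow_mem hsM m)
  have htop : M = ⊤ := top_le_iff.1 fun f _ => by
    obtain ⟨P, Q, -, rfl, hP, hQ⟩ := hdec f
    have hev : ∀ p : K[X], (∀ i, p.coeff i = 0 ∨ ∃ n ∈ W, p.coeff i ∈ Eig n) → p.eval 1 ∈ M := fun p hp => by
      rw [eval_eq_sum_range]
      refine sum_mem fun i _ => ?_
      rw [one_pow, mul_one]
      rcases hp i with h0 | ⟨n, hn, hn'⟩
      · rw [h0]; exact zero_mem M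
      · exact hE n hn _ hn'
    exact div_mem (hev P hP) (hev Q hQ)
  have hd0 : d ≠ 0 := by
    rintro rfl
    obtain ⟨f, hf⟩ := hne
    have hs' : s ∈ invField φ := by
      change φ s = cst K s
      simpa [Eig] using hs
    have hM : M = ⊥ := IntermediateField.adjoin_simple_eq_bot_iff.2 (IntermediateField.mem_bot.2 ⟨⟨s, hs'⟩, rfl⟩)
    obtain ⟨g, hg⟩ := IntermediateField.mem_bot.1 (show f ∈ (⊥ : IntermediateField (invField φ) K) by
      rw [← hM, htop]; trivial)
    exact hf (hg ▸ g.2)
  refine ⟨invField φ, s, ?_, htop⟩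
  -- replace `s` by its inverse if needed
  rcases Int.eq_nat_or_neg d with ⟨e, he | he⟩
  · subst he
    refine transcendental_of (R := ι (C s * X ^ e)) ?_ (fun p => transcendental_ι (by
      rw [natDegree_C_mul_X_pow e s hs0]; omega))
    simp only [ι, map_mul, map_pow]
    exact hs.trans (by rw [zpow_natCast, mul_comm]; congr 1)
  · subst he
    intro halg
    refine transcendental_of (φ := φ) (s := s⁻¹) (R := ι (C s⁻¹ * X ^ e)) ?_ (fun p => transcendental_ι (by
      rw [natDegree_C_mul_X_pow e _ (inv_ne_zero hs0)]; omega)) halg.inv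
    simp only [ι, map_mul, map_pow, map_inv₀]
    rw [show φ s = T K ^ (-(e : ℤ)) * cst K s from hs, mul_inv, zpow_neg, inv_inv, zpow_natCast, mul_comm]
    congr 1
    rw [← map_inv₀]
    exact (ι_C s⁻¹).symm

/-- Cross section for the additive group. -/
theorem exists_section_add (h : IsCoaction φ (X + C (T K)) 0) (hne : ∃ f, φ f ≠ cst K f) :
    ∃ (L : IntermediateField k K) (s : K), Transcendental L s ∧ IntermediateField.adjoin L {s} = ⊤ := by
  classical
  have hcmp : ∀ (p : K[X]) (i : ℕ), ((p.map (cst K)).comp (X + C (T K))).coeff i = ι (hasseDeriv i p) := by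
    intro p i
    rw [← taylor_apply, taylor_coeff, show hasseDeriv i (p.map (cst K)) = (hasseDeriv i p).map (cst K) from
      Polynomial.ext fun j => by simp [hasseDeriv_coeff], eval_map, eval₂_T]
  have hdec : ∀ f : K, ∃ a b A B, b ≠ 0 ∧ f = a / b ∧ φ a = ι A ∧ φ b = ι B := by
    intro f
    obtain ⟨P, Q, hcop, hm, he, hq, hf, hass, hc⟩ := h.reduced f
    have hQ : (Q.map (cst K)).comp (X + C (T K)) = Q.map φ.toRingHom :=
      eq_of_monic_of_associated ((hm.map (cst K)).comp_X_add_C (T K)) (hm.map φ.toRingHom) hass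
    have hP : P.map φ.toRingHom = (P.map (cst K)).comp (X + C (T K)) := by
      refine mul_right_cancel₀ ((hm.map φ.toRingHom).ne_zero) ?_
      rw [← hc, hQ]
    refine ⟨P.eval 0, Q.eval 0, hasseDeriv 0 P, hasseDeriv 0 Q, hq, hf, ?_, ?_⟩
    · rw [← coeff_zero_eq_eval_zero, ← hcmp, ← hP, coeff_map]; rfl
    · rw [← coeff_zero_eq_eval_zero, ← hcmp, hQ, coeff_map]; rfl
  have hshift : ∀ (f : K) (F : K[X]), φ f = ι F → ∀ j, φ (F.coeff j) = ι (hasseDeriv j F) := by
    intro f F hF j
    have e := h.comp f F 1 (by rw [hF, show ι (1 : K[X]) = 1 from map_one _, mul_one])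
    simp only [Polynomial.map_one, one_comp, mul_one] at e
    rw [← hcmp, ← e, coeff_map]
    rfl
  have hval : ∀ (f : K) (F : K[X]), φ f = ι F → F.coeff 0 = f := by
    intro f F hF
    obtain ⟨P, Q, he, hq, hp⟩ := h.unit f
    rw [hF] at he
    have := congrArg (eval (0 : K)) (ι_injective (by simpa [ι] using he) : F * Q = P)
    rw [eval_mul, hp] at this
    rw [coeff_zero_eq_eval_zero]
    exact mul_right_cancel₀ hq this
  have hinv : ∀ (f : K) (F : K[X]), φ f = ι F → F.natDegree = 0 → f ∈ invField φ := by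
    intro f F hF hd
    change φ f = cst K f
    rw [hF, eq_C_of_natDegree_eq_zero hd, hval f F hF, ι_C]
  let S : ℕ → Prop := fun d => ∃ f F, φ f = ι F ∧ F.natDegree = d ∧ 0 < d
  have hS : ∃ d, S d := by
    by_contra hS
    obtain ⟨f, hf⟩ := hne
    obtain ⟨a, b, A, B, -, rfl, ha, hb⟩ := hdec f
    exact hf (div_mem (hinv a A ha (by by_contra hd; exact hS ⟨_, a, A, ha, rfl, Nat.pos_of_ne_zero hd⟩))
      (hinv b B hb (by by_contra hd; exact hS ⟨_, b, B, hb, rfl, Nat.pos_of_ne_zero hd⟩)) :)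
  obtain ⟨f, F, hF, hd, hdpos⟩ := Nat.find_spec hS
  set d := Nat.find hS with hddef
  have hmin : ∀ (g : K) (G : K[X]), φ g = ι G → G.natDegree < d → g ∈ invField φ := fun g G hG hlt =>
    hinv g G hG (by
      by_contra h0
      exact Nat.find_min hS hlt ⟨g, G, hG, rfl, Nat.pos_of_ne_zero h0⟩)
  have hlow : ∀ (g : K) (G : K[X]), φ g = ι G → ∀ r, r ≤ G.natDegree → 0 < r → r < d →
      ((G.natDegree.choose r : ℕ) : K) = 0 := by
    intro g G hG r hr hr0 hrd
    by_contra hne0
    have hlt : (hasseDeriv (G.natDegree - r) G).natDegree < d :=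
      lt_of_le_of_lt (natDegree_hasseDeriv_le G _) (by omega)
    have h2 : φ (G.coeff (G.natDegree - r)) = cst K (G.coeff (G.natDegree - r)) := hmin _ _ (hshift g G hG _) hlt
    rw [hshift g G hG, ← ι_C] at h2
    have h3 := congrArg (fun p : K[X] => p.coeff r) (ι_injective h2)
    simp only [hasseDeriv_coeff, coeff_C, if_neg hr0.ne', Nat.add_sub_cancel' hr] at h3
    rw [← Nat.choose_symm_of_eq_add (Nat.add_sub_cancel' hr).symm] at h3
    rcases mul_eq_zero.1 h3 with h4 | h4
    · exact hne0 h4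
    · have : G ≠ 0 := fun e => by rw [e, natDegree_zero] at hr; omega
      exact (leadingCoeff_ne_zero.2 this) h4
  have hFp : ((X : K[X]) + 1) ^ d = X ^ d + 1 := by
    refine Polynomial.ext fun i => ?_
    rw [coeff_X_add_one_pow, coeff_add, coeff_X_pow, coeff_one]
    rcases eq_or_ne i 0 with rfl | hi0
    · simp [hdpos.ne]
    rcases lt_trichotomy i d with hi | rfl | hi
    · have := hlow f F hF i (by omega) (Nat.pos_of_ne_zero hi0) hi
      rw [hd] at this
      simp [this, hi.ne, hi0]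
    · simp [hi0]
    · simp [Nat.choose_eq_zero_of_lt hi, hi.ne', hi0]
  have hdvd : ∀ (g : K) (G : K[X]), φ g = ι G → d ∣ G.natDegree := by
    intro g G hG
    by_contra hnd
    set N := G.natDegree with hN
    have hr0 : 0 < N % d := Nat.pos_of_ne_zero fun e => hnd (Nat.dvd_of_mod_eq_zero e)
    have h1 := hlow g G hG (N % d) (Nat.mod_le _ _) hr0 (Nat.mod_lt _ hdpos)
    have e : ((X : K[X]) + 1) ^ N = (X ^ d + 1) ^ (N / d) * (X + 1) ^ (N % d) := by
      rw [← hFp, ← pow_mul, ← pow_add, Nat.div_add_mod]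
    have h2 := congrArg (fun p : K[X] => p.coeff (N % d)) e
    obtain ⟨q, hq⟩ : (X : K[X]) ^ d ∣ (X ^ d + 1) ^ (N / d) - 1 := by
      have h := sub_dvd_pow_sub_pow ((X : K[X]) ^ d + 1) 1 (N / d)
      rwa [one_pow, add_sub_cancel_right] at h
    rw [sub_eq_iff_eq_add] at hq
    simp only [coeff_X_add_one_pow] at h2
    rw [hq, add_mul, one_mul, mul_assoc, coeff_add, coeff_X_pow_mul', if_neg (by
      have := Nat.mod_lt N hdpos; omega), zero_add, coeff_X_add_one_pow, Nat.choose_self, Nat.cast_one] at h2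
    exact one_ne_zero (h2.symm.trans h1)
  have hF0 : F ≠ 0 := fun e => by rw [e, natDegree_zero] at hd; omega
  have hlead : F.leadingCoeff ∈ invField φ := by
    refine hmin _ _ (hshift f F hF d |>.trans rfl |> fun e => by rwa [← hd] at e) ?_
    rw [hd]
    exact lt_of_le_of_lt (natDegree_hasseDeriv_le F _) (by omega)
  let M := IntermediateField.adjoin (invField φ) {f}
  have hfM : f ∈ M := IntermediateField.mem_adjoin_simple_self _ _
  have hall : ∀ (N : ℕ) (g : K) (G : K[X]), φ g = ι G → G.natDegree ≤ N → g ∈ M := by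
    intro N
    induction N using Nat.strong_induction_on with
    | _ N ih =>
    intro g G hG hle
    rcases Nat.eq_zero_or_pos G.natDegree with h0 | h0
    · exact M.algebraMap_mem ⟨g, hinv g G hG h0⟩
    obtain ⟨m, hm⟩ := hdvd g G hG
    have hgl : φ G.leadingCoeff = cst K G.leadingCoeff := by
      have h1 := hshift g G hG G.natDegree
      have h2 : (hasseDeriv G.natDegree G).natDegree = 0 := by
        have := natDegree_hasseDeriv_le G G.natDegree; omega
      exact hinv _ _ h1 h2
    have hfl : φ F.leadingCoeff = cst K F.leadingCoeff := hlead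
    let a := G.leadingCoeff / F.leadingCoeff ^ m
    have ha : φ a = cst K a := by simp only [a, map_div₀, map_pow, hgl, hfl]
    have hG' : φ (g - a * f ^ m) = ι (G - C a * F ^ m) := by
      rw [map_sub, map_mul, map_pow, hG, hF, ha, ← ι_C]
      simp [ι]
    have hlt : (G - C a * F ^ m).natDegree < G.natDegree := by
      have hne0 : a ≠ 0 := div_ne_zero (leadingCoeff_ne_zero.2 fun e => by rw [e] at h0; simp at h0)
        (pow_ne_zero _ (leadingCoeff_ne_zero.2 hF0))
      have hdeg : (C a * F ^ m).natDegree = G.natDegree := by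
        rw [natDegree_C_mul hne0, natDegree_pow, hd, hm, mul_comm]
      have hlc : (C a * F ^ m).coeff G.natDegree = G.leadingCoeff := by
        rw [← hdeg, ← leadingCoeff, leadingCoeff_mul, leadingCoeff_C, leadingCoeff_pow,
          div_mul_cancel₀ _ (pow_ne_zero _ (leadingCoeff_ne_zero.2 hF0))]
      by_cases hz : G - C a * F ^ m = 0
      · rw [hz, natDegree_zero]; exact h0
      refine lt_of_le_of_ne (le_trans (natDegree_sub_le _ _) (by rw [hdeg, max_self])) fun e => hz ?_
      rw [← leadingCoeff_eq_zero, leadingCoeff, e, coeff_sub, hlc, ← leadingCoeff, sub_self]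
    have := ih _ (lt_of_lt_of_le hlt hle) _ _ hG' le_rfl
    rw [show g = (g - a * f ^ m) + a * f ^ m by ring]
    exact add_mem this (mul_mem (M.algebraMap_mem ⟨a, ha⟩) (pow_mem hfM m))
  refine ⟨invField φ, f, transcendental_of hF (fun p => transcendental_ι (by omega)), top_le_iff.1 fun g _ => ?_⟩
  obtain ⟨a, b, A, B, -, rfl, ha, hb⟩ := hdec g
  exact div_mem (hall _ a A ha le_rfl) (hall _ b B hb le_rfl)

end RosCrossLib

end
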