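import Groth.Agent.RosCrossLib.Field
import Groth.Agent.GaGmFixLib.Pts
import Groth.Agent.MonoQuotLib.Orbit
import Groth.Agent.GeomRedFieldLib.Locus
import Groth.Prelude.Def_CurvBase

/-!
# The coaction on the function field of a variety with an action
-/

set_option autoImplicit false
set_option linter.all false
set_option backward.isDefEq.respectTransparency false
set_option backward.isDefEq.respectTransparency.types false
set_option maxHeartbeats 1000000

universe u

noncomputable section

open CategoryTheory MonoidalCategory CartesianMonoidalCategory AlgebraicGeometry Limits MonObj GrpObj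
open GaGmFixLib Groth.Agent

namespace RosCrossLib

attribute [-instance] CategoryTheory.Hom.commGroup

variable {k : Type u} [Field k]

local notation "SK" => Spec (CommRingCat.of k)

variable (X : Over (Spec (CommRingCat.of k))) [IsIntegral X.left]

/-- the function field -/
abbrev Kx : Type u := X.left.functionField

instance algKx : Algebra k (Kx X) :=
  letI : X.left.Over (Spec (CommRingCat.of k)) := ⟨X.hom⟩
  Curv2.stalkAlgebra k X.left (genericPoint X.left)

/-- the generic point -/
def gen : P k (Kx X) ⟶ X :=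
  letI : X.left.Over (Spec (CommRingCat.of k)) := ⟨X.hom⟩
  Over.homMk (X.left.fromSpecStalk (genericPoint X.left))
    (by exact GeomRedFieldLib.fromSpecStalk_comp_over (k := k) X.left (genericPoint X.left))

theorem gen_left : (gen X).left = X.left.fromSpecStalk (genericPoint X.left) := rfl

theorem PM_gen_injective {A : Type u} [CommRing A] [Algebra k A] {f g : Kx X →ₐ[k] A}
    (h : PM f ≫ gen X = PM g ≫ gen X) : f = g := by
  have e := congrArg Over.Hom.left h
  rw [Over.comp_left, Over.comp_left, PM_left, PM_left, gen_left] at e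
  exact AlgHom.coe_ringHom_injective
    (congrArg CommRingCat.Hom.hom (Spec.map_injective ((cancel_mono _).1 e)))

theorem exists_lift_gen {A : Type u} [CommRing A] [Algebra k A] [IsLocalRing A] (y : P k A ⟶ X)
    (hy : y.left (IsLocalRing.closedPoint A) = genericPoint X.left) :
    ∃ h : Kx X →ₐ[k] A, PM h ≫ gen X = y := by
  have key : ∀ (x : X.left) (hx : x = genericPoint X.left) (f : X.left.presheaf.stalk x ⟶ CommRingCat.of A),
      ∃ f' : X.left.presheaf.stalk (genericPoint X.left) ⟶ CommRingCat.of A,
        Spec.map f' ≫ X.left.fromSpecStalk (genericPoint X.left) = Spec.map f ≫ X.left.fromSpecStalk x := by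
    intro x hx f
    subst hx
    exact ⟨f, rfl⟩
  obtain ⟨f, hf⟩ := key _ hy (Scheme.stalkClosedPointTo y.left)
  replace hf : Spec.map f ≫ X.left.fromSpecStalk (genericPoint X.left) = y.left :=
    hf.trans (Scheme.Spec_stalkClosedPointTo_fromSpecStalk (R := CommRingCat.of A) y.left)
  have hw := Over.w y
  rw [← hf, Category.assoc] at hw
  letI : X.left.Over (Spec (CommRingCat.of k)) := ⟨X.hom⟩
  rw [show X.left.fromSpecStalk (genericPoint X.left) ≫ X.hom =
    Spec.map (CommRingCat.ofHom (Curv2.stalkMap k X.left (genericPoint X.left))) from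
    GeomRedFieldLib.fromSpecStalk_comp_over (k := k) X.left (genericPoint X.left), ← Spec.map_comp] at hw
  let h : Kx X →ₐ[k] A :=
    { f.hom with commutes' := fun c => congrArg (fun q => q.hom c) (Spec.map_injective hw) }
  exact ⟨h, Over.OverMorphism.ext hf⟩

variable {X}
variable {G : Over (Spec (CommRingCat.of k))} [GrpObj G] (a : AlgGrp.Action G X)

instance isPrime_evalKer {F : Type u} [Field F] (c : F) : (RingHom.ker (Polynomial.evalRingHom c)).IsPrime :=
  RingHom.ker_isPrime _

/-- the coaction of a rational action given by a coordinate of the group -/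
theorem exists_coaction (c : Kx X) (gO : P k (Localization.AtPrime (RingHom.ker (Polynomial.evalRingHom c))) ⟶ G)
    (op : Polynomial (RF (Kx X))) (hop : 0 < op.natDegree)
    (h1 : ∀ ev : Localization.AtPrime (RingHom.ker (Polynomial.evalRingHom c)) →ₐ[k] Kx X,
      ev (algebraMap (Polynomial (Kx X)) _ Polynomial.X) = c → PM ev ≫ gO = 1)
    (hmul : ∀ (u v w : Localization.AtPrime (RingHom.ker (Polynomial.evalRingHom c)) →ₐ[k] RF (RF (Kx X))),
      u (algebraMap (Polynomial (Kx X)) _ Polynomial.X) = algebraMap (Polynomial (RF (Kx X))) _ op →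
      v (algebraMap (Polynomial (Kx X)) _ Polynomial.X) = T (RF (Kx X)) →
      w (algebraMap (Polynomial (Kx X)) _ Polynomial.X) = cst (RF (Kx X)) (T (Kx X)) →
      PM u ≫ gO = (PM v ≫ gO) * (PM w ≫ gO)) :
    ∃ (φ : Kx X →ₐ[k] RF (Kx X)) (inc : Localization.AtPrime (RingHom.ker (Polynomial.evalRingHom c)) →ₐ[k] RF (Kx X)),
      IsCoaction φ op c ∧ inc (algebraMap (Polynomial (Kx X)) _ Polynomial.X) = T (Kx X) ∧
      PM φ ≫ gen X = actPt a (PM inc ≫ gO) (PM (IsScalarTower.toAlgHom k (Kx X) (RF (Kx X))) ≫ gen X) := by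
  set p := RingHom.ker (Polynomial.evalRingHom c) with hp
  let O := Localization.AtPrime p
  let inc : O →ₐ[k] RF (Kx X) := IsLocalization.liftAlgHom (M := p.primeCompl)
    (f := IsScalarTower.toAlgHom k (Polynomial (Kx X)) (RF (Kx X))) fun y => by
      refine isUnit_iff_ne_zero.2 ?_
      intro h
      exact y.2 (((map_eq_zero_iff _ ι_injective).1 h).symm ▸ zero_mem _)
  have hinc : ∀ q, inc (algebraMap (Polynomial (Kx X)) O q) = RosCrossLib.ι q := fun q =>
    IsLocalization.lift_eq _ _
  let ev : O →ₐ[k] Kx X := IsLocalization.liftAlgHom (M := p.primeCompl)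
    (f := (Polynomial.aeval c).restrictScalars k) fun y => by
      refine isUnit_iff_ne_zero.2 ?_
      intro h
      exact y.2 (by simpa [hp, RingHom.mem_ker] using h)
  have hev : ∀ q, ev (algebraMap (Polynomial (Kx X)) O q) = q.eval c := fun q =>
    (IsLocalization.lift_eq _ _).trans (by simp)
  let toO : Kx X →ₐ[k] O := IsScalarTower.toAlgHom k (Kx X) O
  have hev0 : ev.comp toO = AlgHom.id k _ := by
    refine AlgHom.ext fun x => ?_
    change ev (algebraMap (Kx X) O x) = x
    rw [IsScalarTower.algebraMap_apply (Kx X) (Polynomial (Kx X)) O, hev]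
    simp
  have hPM0 : PM (AlgHom.id k (Kx X)) = 𝟙 (P k (Kx X)) := by
    ext1
    rw [PM_left]
    exact Spec.map_id _
  let y := actPt a gO (PM toO ≫ gen X)
  have hy : PM ev ≫ y = gen X := by
    rw [comp_actPt, h1 ev (by rw [hev]; simp), ← Category.assoc, ← PM_comp, hev0, hPM0, Category.id_comp]
    exact MonoQuot.act_one a _
  obtain ⟨φO, hφO⟩ := exists_lift_gen X y (by
    have hsurj : Function.Surjective ev := fun x => ⟨toO x, DFunLike.congr_fun hev0 x⟩
    haveI hmax : (RingHom.ker ev.toRingHom).IsMaximal := RingHom.ker_isMaximal_of_surjective _ hsurj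
    have hpt : (PM ev).left (IsLocalRing.closedPoint (Kx X)) = IsLocalRing.closedPoint O := by
      refine PrimeSpectrum.ext ?_
      change Ideal.comap ev.toRingHom (IsLocalRing.maximalIdeal (Kx X)) = IsLocalRing.maximalIdeal O
      rw [IsLocalRing.maximalIdeal_eq_bot]
      exact IsLocalRing.eq_maximalIdeal hmax
    rw [← hpt, ← Scheme.Hom.comp_apply, ← Over.comp_left, hy, gen_left]
    exact Scheme.fromSpecStalk_closedPoint)
  have hevφ : ev.comp φO = AlgHom.id k _ := by
    refine PM_gen_injective X ?_
    rw [PM_comp, Category.assoc, hφO, hy, hPM0, Category.id_comp]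
  obtain ⟨φ, hφdef⟩ : ∃ φ, φ = inc.comp φO := ⟨_, rfl⟩
  have hcst : inc.comp toO = IsScalarTower.toAlgHom k (Kx X) (RF (Kx X)) := by
    refine AlgHom.ext fun x => ?_
    change inc (algebraMap (Kx X) O x) = algebraMap (Kx X) (RF (Kx X)) x
    rw [IsScalarTower.algebraMap_apply (Kx X) (Polynomial (Kx X)) O, hinc,
      IsScalarTower.algebraMap_apply (Kx X) (Polynomial (Kx X)) (RF (Kx X))]
  have hφ : PM φ ≫ gen X = actPt a (PM inc ≫ gO) (PM (IsScalarTower.toAlgHom k (Kx X) (RF (Kx X))) ≫ gen X) := by
    rw [hφdef, PM_comp, Category.assoc, hφO, comp_actPt, ← Category.assoc, ← PM_comp, hcst]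
  refine ⟨φ, inc, ⟨?_, ?_⟩, hinc _, hφ⟩
  · -- coassociativity
    let R1 := RF (Kx X)
    let E := RF R1
    let Ψ : Polynomial (Kx X) →+* E :=
      (algebraMap (Polynomial R1) E).comp (Polynomial.mapRingHom φ.toRingHom)
    let SS : Polynomial (Kx X) →+* E :=
      (algebraMap (Polynomial R1) E).comp ((Polynomial.compRingHom op).comp (Polynomial.mapRingHom (cst (Kx X))))
    have hΨ : Function.Injective Ψ :=
      (IsFractionRing.injective (Polynomial R1) E).comp (Polynomial.map_injective _ φ.toRingHom.injective)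
    have hSS : Function.Injective SS := by
      refine (IsFractionRing.injective (Polynomial R1) E).comp ?_
      refine Function.Injective.comp ?_ (Polynomial.map_injective _ (cst (Kx X)).injective)
      refine (injective_iff_map_eq_zero (Polynomial.compRingHom op)).2 fun q hq => ?_
      rcases Polynomial.comp_eq_zero_iff.1 hq with h | ⟨-, h⟩
      · exact h
      · rw [h, Polynomial.natDegree_C] at hop
        exact absurd hop (lt_irrefl 0)
    have halg : ∀ r : k, algebraMap k E r =
        algebraMap (Polynomial R1) E (Polynomial.C (algebraMap k R1 r)) := fun r => by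
      rw [IsScalarTower.algebraMap_apply k R1 E, IsScalarTower.algebraMap_apply R1 (Polynomial R1) E]
      rfl
    let ψ : R1 →ₐ[k] E :=
      { IsFractionRing.lift hΨ with
        commutes' := fun r => by
          change IsFractionRing.lift hΨ (algebraMap k R1 r) = _
          rw [IsScalarTower.algebraMap_apply k (Polynomial (Kx X)) R1, IsFractionRing.lift_algebraMap, halg]
          change algebraMap (Polynomial R1) E ((Polynomial.C (algebraMap k (Kx X) r)).map φ.toRingHom) = _
          rw [Polynomial.map_C]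
          congr 2
          exact φ.commutes r }
    let σ : R1 →ₐ[k] E :=
      { IsFractionRing.lift hSS with
        commutes' := fun r => by
          change IsFractionRing.lift hSS (algebraMap k R1 r) = _
          rw [IsScalarTower.algebraMap_apply k (Polynomial (Kx X)) R1, IsFractionRing.lift_algebraMap, halg]
          change algebraMap (Polynomial R1) E (((Polynomial.C (algebraMap k (Kx X) r)).map (cst (Kx X))).comp op) = _
          rw [Polynomial.map_C, Polynomial.C_comp]
          congr 2 }
    have hψι : ∀ q, ψ (RosCrossLib.ι q) = algebraMap (Polynomial R1) E (q.map φ.toRingHom) := fun q =>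
      IsFractionRing.lift_algebraMap hΨ q
    have hσι : ∀ q, σ (RosCrossLib.ι q) = algebraMap (Polynomial R1) E ((q.map (cst (Kx X))).comp op) := fun q =>
      IsFractionRing.lift_algebraMap hSS q
    let j : R1 →ₐ[k] E := IsScalarTower.toAlgHom k R1 E
    let cK : Kx X →ₐ[k] R1 := IsScalarTower.toAlgHom k (Kx X) R1
    have hjC : ∀ x : R1, algebraMap (Polynomial R1) E (Polynomial.C x) = j x := fun x => by
      change _ = algebraMap R1 E x
      rw [IsScalarTower.algebraMap_apply R1 (Polynomial R1) E]; rfl
    have hψc : ψ.comp cK = j.comp φ := by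
      refine AlgHom.ext fun x => ?_
      change ψ (algebraMap (Kx X) R1 x) = j (φ x)
      rw [show algebraMap (Kx X) R1 x = RosCrossLib.ι (Polynomial.C x) from (ι_C x).symm, hψι, Polynomial.map_C, hjC]
      rfl
    have hσc : σ.comp cK = j.comp cK := by
      refine AlgHom.ext fun x => ?_
      change σ (algebraMap (Kx X) R1 x) = j (algebraMap (Kx X) R1 x)
      rw [show algebraMap (Kx X) R1 x = RosCrossLib.ι (Polynomial.C x) from (ι_C x).symm, hσι, Polynomial.map_C,
        Polynomial.C_comp, hjC, ι_C]
    have hg : PM σ ≫ PM inc ≫ gO = (PM ψ ≫ PM inc ≫ gO) * (PM j ≫ PM inc ≫ gO) := by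
      simp only [← Category.assoc, ← PM_comp]
      refine hmul _ _ _ ?_ ?_ ?_
      · change σ (inc _) = _
        rw [hinc, hσι]; simp; rfl
      · change ψ (inc _) = _
        rw [hinc, hψι]; simp; rfl
      · change j (inc _) = _
        rw [hinc]; rfl
    have key : ψ.comp φ = σ.comp φ := by
      refine PM_gen_injective X ?_
      rw [PM_comp, PM_comp, Category.assoc, Category.assoc, hφ, comp_actPt, comp_actPt, hg, mul_actPt]
      have e : PM ψ ≫ PM cK ≫ gen X = actPt a (PM j ≫ PM inc ≫ gO) (PM σ ≫ PM cK ≫ gen X) := by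
        rw [← Category.assoc, ← PM_comp, hψc, PM_comp, Category.assoc, hφ, comp_actPt, ← Category.assoc (PM σ),
          ← PM_comp, hσc, PM_comp, Category.assoc]
      exact congrArg (fun x => actPt a (PM ψ ≫ PM inc ≫ gO) x) e
    intro f P Q he
    apply IsFractionRing.injective (Polynomial R1) E
    have h1' := congrArg ψ he
    have h2' := congrArg σ he
    rw [map_mul, hψι, hψι] at h1'
    rw [map_mul, hσι, hσι, show σ (φ f) = ψ (φ f) from (DFunLike.congr_fun key f).symm] at h2'
    rw [map_mul, map_mul]
    linear_combination (algebraMap (Polynomial R1) E (Q.map φ.toRingHom)) * h2' -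
      (algebraMap (Polynomial R1) E ((Q.map (cst (Kx X))).comp op)) * h1'
  · -- unit
    intro f
    obtain ⟨P, ⟨Q, hQ⟩, hfPQ⟩ := IsLocalization.exists_mk'_eq p.primeCompl (φO f)
    have e := IsLocalization.mk'_spec (M := p.primeCompl) O P ⟨Q, hQ⟩
    rw [hfPQ] at e
    refine ⟨P, Q, ?_, ?_, ?_⟩
    · have := congrArg inc e
      rw [hφdef]
      rwa [map_mul, hinc, hinc] at this
    · simpa [hp, RingHom.mem_ker] using hQ
    · have := congrArg ev e
      rw [map_mul, hev, hev, show ev (φO f) = f from DFunLike.congr_fun hevφ f] at this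
      exact this.symm

section trivial

variable [IsSeparated X.hom]

/-- a scheme with affine coordinates -/
theorem isIso_toP (T : Over SK) [IsAffine T.left] : letI := gammaAlg T; IsIso (toP T) := by
  letI := gammaAlg T
  haveI : IsIso ((Over.forget SK).map (toP T)) := inferInstanceAs (IsIso T.left.toSpecΓ)
  exact isIso_of_reflects_iso (toP T) (Over.forget SK)

/-- the action is trivial as soon as points of affine opens are fixed -/
theorem act_eq_snd
    (H : ∀ (B C : Type u) [CommRing B] [CommRing C] [Algebra k B] [Algebra k C] (bK : B →ₐ[k] Kx X)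
      (_ : Function.Injective bK) (xW : P k B ⟶ X), PM bK ≫ xW = gen X →
      ∀ (hom : B →ₐ[k] C) (g : P k C ⟶ G), actPt a g (PM hom ≫ xW) = PM hom ≫ xW) :
    a.act = snd G X := by
  suffices hT : ∀ (T : Over SK) (g : T ⟶ G) (x : T ⟶ X), actPt a g x = x by
    have := hT (G ⊗ X) (fst G X) (snd G X)
    simpa [actPt] using this
  intro T g x
  refine Over.OverMorphism.ext (Scheme.hom_ext_of_forall _ _ fun t => ?_)
  obtain ⟨W, hW, hxW, -⟩ := exists_isAffineOpen_mem_and_subset (show x.left t ∈ (⊤ : X.left.Opens) from trivial)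
  obtain ⟨V, hV, htV, hVW⟩ := exists_isAffineOpen_mem_and_subset (show t ∈ x.left ⁻¹ᵁ W from hxW)
  refine ⟨V, htV, ?_⟩
  have hηW : genericPoint X.left ∈ W := ((genericPoint_spec X.left).specializes trivial).mem_open W.2 hxW
  let Wo : Over SK := Over.mk (W.ι ≫ X.hom)
  let To : Over SK := Over.mk (V.ι ≫ T.hom)
  haveI : IsAffine Wo.left := hW
  haveI : IsAffine To.left := hV
  letI := gammaAlg Wo
  letI := gammaAlg To
  haveI := isIso_toP Wo
  haveI := isIso_toP To
  let jW : Wo ⟶ X := Over.homMk W.ι rfl
  let jT : To ⟶ T := Over.homMk V.ι rfl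
  let xW : P k Γ(Wo.left, ⊤) ⟶ X := inv (toP Wo) ≫ jW
  have preim : ∀ {A B : Type u} [CommRing A] [CommRing B] [Algebra k A] [Algebra k B] (q : P k B ⟶ P k A),
      ∃ f : A →ₐ[k] B, PM f = q := by
    intro A B _ _ _ _ q
    obtain ⟨f, hf⟩ := Spec.map_surjective (R := CommRingCat.of A) (S := CommRingCat.of B) q.left
    have hw := Over.w q
    rw [← hf] at hw
    simp only [Over.mk_hom] at hw
    rw [← Spec.map_comp] at hw
    exact ⟨{ f.hom with commutes' := fun c => congrArg (fun r => r.hom c) (Spec.map_injective hw) },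
      Over.OverMorphism.ext hf⟩
  -- the generic point in the affine open
  have hrg : Set.range (gen X).left ⊆ Set.range W.ι := by
    rw [Scheme.Opens.range_ι, gen_left]
    erw [Scheme.range_fromSpecStalk]
    intro z hz
    exact hz.mem_open W.2 hηW
  let ξW : P k (Kx X) ⟶ Wo := Over.homMk (IsOpenImmersion.lift W.ι (gen X).left hrg) (by
    show IsOpenImmersion.lift W.ι (gen X).left hrg ≫ W.ι ≫ X.hom = _
    rw [IsOpenImmersion.lift_fac_assoc]
    exact Over.w (gen X))
  obtain ⟨bK, hbK⟩ := preim (ξW ≫ toP Wo)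
  have hbK' : PM bK ≫ xW = gen X := by
    rw [hbK, Category.assoc, IsIso.hom_inv_id_assoc]
    exact Over.OverMorphism.ext (IsOpenImmersion.lift_fac _ _ _)
  have hinj : Function.Injective bK := by
    haveI : IsOpenImmersion xW.left := by
      haveI : IsIso (inv (toP Wo)).left := inferInstanceAs (IsIso ((Over.forget SK).map (inv (toP Wo))))
      haveI : IsOpenImmersion jW.left := inferInstanceAs (IsOpenImmersion W.ι)
      rw [show xW.left = (inv (toP Wo)).left ≫ jW.left from rfl]
      infer_instance
    haveI : Nonempty ↥W := ⟨⟨_, hηW⟩⟩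
    haveI : Nonempty ↥(W : Scheme) := ⟨⟨_, hηW⟩⟩
    haveI : IsIntegral (W : Scheme) := isIntegral_of_isOpenImmersion W.ι
    haveI : IsDomain Γ(Wo.left, ⊤) := inferInstanceAs (IsDomain Γ((W : Scheme), ⊤))
    haveI : IsIntegral (P k Γ(Wo.left, ⊤)).left := inferInstanceAs (IsIntegral (Spec Γ(Wo.left, ⊤)))
    let z : Spec (CommRingCat.of (Kx X)) := IsLocalRing.closedPoint (Kx X)
    have hz : xW.left ((PM bK).left z) = xW.left (genericPoint (P k Γ(Wo.left, ⊤)).left) := by
      rw [genericPoint_eq_of_isOpenImmersion xW.left, ← Scheme.Hom.comp_apply, ← Over.comp_left, hbK', gen_left]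
      exact Scheme.fromSpecStalk_closedPoint
    have hz' := (xW.left.isOpenEmbedding.injective hz).trans (genericPoint_eq_bot_of_affine _)
    have hz'' := congrArg PrimeSpectrum.asIdeal hz'
    change Ideal.comap bK.toRingHom (IsLocalRing.maximalIdeal (Kx X)) = ⊥ at hz''
    rw [IsLocalRing.maximalIdeal_eq_bot, ← RingHom.ker_eq_comap_bot] at hz''
    exact (RingHom.injective_iff_ker_eq_bot _).2 hz''
  have hrx : Set.range (V.ι ≫ x.left) ⊆ Set.range W.ι := by
    rw [Scheme.Opens.range_ι]
    rintro _ ⟨v, rfl⟩
    exact hVW v.2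
  let l : To ⟶ Wo := Over.homMk (IsOpenImmersion.lift W.ι (V.ι ≫ x.left) hrx) (by
    show IsOpenImmersion.lift W.ι (V.ι ≫ x.left) hrx ≫ W.ι ≫ X.hom = V.ι ≫ T.hom
    rw [IsOpenImmersion.lift_fac_assoc, Category.assoc, Over.w x])
  obtain ⟨hom, hhom⟩ := preim (inv (toP To) ≫ l ≫ toP Wo)
  have hx : jT ≫ x = toP To ≫ PM hom ≫ xW := by
    rw [hhom]
    simp only [xW, Category.assoc, IsIso.hom_inv_id_assoc]
    exact Over.OverMorphism.ext (IsOpenImmersion.lift_fac _ _ _).symm
  have key := H _ _ bK hinj xW hbK' hom (inv (toP To) ≫ jT ≫ g)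
  have e : jT ≫ actPt a g x = jT ≫ x := by
    rw [comp_actPt, hx]
    conv_rhs => rw [← key, comp_actPt, IsIso.hom_inv_id_assoc]
  exact congrArg Over.Hom.left e

end trivial

end RosCrossLib

end
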