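import Mathlib

/-!
# Models of simple transcendental extensions
-/

set_option autoImplicit false
set_option linter.all false
universe u

noncomputable section

namespace RosCrossLib

variable {k : Type u} [Field k]

/-- A simple transcendental extension is the function field of an affine line over an affine variety. -/
theorem exists_algebra_model {K : Type u} [Field K] [Algebra k K] [Algebra.EssFiniteType k K]
    (L : IntermediateField k K) (s : K) (hs : Transcendental L s) (htop : IntermediateField.adjoin L {s} = ⊤) :
    ∃ (A : Type u) (_ : CommRing A) (_ : IsDomain A) (_ : Algebra k A) (_ : Algebra.FiniteType k A),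
      Nonempty (K ≃ₐ[k] FractionRing (MvPolynomial (ULift.{u} (Fin 1)) A)) := by
  classical
  obtain ⟨S, hS⟩ := (IntermediateField.fg_top_iff (F := k) (E := K)).2 inferInstance
  have hdiv : ∀ g : K, ∃ r t : Polynomial L, g = Polynomial.aeval s r / Polynomial.aeval s t := fun g =>
    (IntermediateField.mem_adjoin_simple_iff L g).1 (htop ▸ IntermediateField.mem_top)
  choose r t hrt using hdiv
  let co : Finset L := S.biUnion fun g => (r g).coeffs ∪ (t g).coeffs
  let A : Subalgebra k L := Algebra.adjoin k (co : Set L)
  haveI : Algebra.FiniteType k A := A.fg_iff_finiteType.1 ⟨co, rfl⟩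
  refine ⟨A, inferInstance, inferInstance, inferInstance, inferInstance, ?_⟩
  let m : A →ₐ[k] K := L.val.comp A.val
  let f₀ : Polynomial A →ₐ[k] K :=
    { Polynomial.eval₂RingHom m.toRingHom s with
      commutes' := fun x => by
        change (algebraMap k (Polynomial A) x).eval₂ m.toRingHom s = _
        rw [IsScalarTower.algebraMap_apply k A (Polynomial A)]
        simp }
  have hf₀eq : ∀ p : Polynomial A, f₀ p = Polynomial.aeval s (p.map A.val.toRingHom) := fun p => by
    change p.eval₂ m.toRingHom s = _
    rw [Polynomial.aeval_def, Polynomial.eval₂_map]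
    rfl
  have hf₀ : Function.Injective f₀ := by
    rw [injective_iff_map_eq_zero]
    intro p hp
    rw [hf₀eq] at hp
    exact Polynomial.map_injective A.val.toRingHom Subtype.val_injective
      ((transcendental_iff.1 hs _ hp).trans (Polynomial.map_zero A.val.toRingHom).symm)
  let e₀ : MvPolynomial (ULift.{u} (Fin 1)) A ≃ₐ[k] Polynomial A :=
    (MvPolynomial.uniqueAlgEquiv A (ULift.{u} (Fin 1))).restrictScalars k
  let f := f₀.comp e₀.toAlgHom
  have hf : Function.Injective f := hf₀.comp e₀.injective
  let F : FractionRing (MvPolynomial (ULift.{u} (Fin 1)) A) →ₐ[k] K := IsFractionRing.liftAlgHom hf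
  have hF : ∀ p, F (algebraMap _ _ p) = f p := fun p => IsFractionRing.lift_algebraMap hf p
  refine ⟨(AlgEquiv.ofBijective F ⟨F.toRingHom.injective, ?_⟩).symm⟩
  suffices h : F.fieldRange = ⊤ by
    intro y
    have hy : y ∈ F.fieldRange := h ▸ IntermediateField.mem_top
    exact hy
  rw [eq_top_iff, ← hS, IntermediateField.adjoin_le_iff]
  intro g hg
  have hmem : ∀ p : Polynomial L, (p.coeffs : Set L) ⊆ A → Polynomial.aeval s p ∈ F.fieldRange := by
    intro p hp
    have hl : p ∈ Polynomial.lifts A.val.toRingHom := by
      rw [Polynomial.lifts_iff_coeff_lifts]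
      intro i
      by_cases h0 : p.coeff i = 0
      · rw [h0]; exact ⟨0, map_zero _⟩
      · exact ⟨⟨_, hp (Polynomial.coeff_mem_coeffs h0)⟩, rfl⟩
    obtain ⟨q, rfl⟩ := (Polynomial.mem_lifts p).1 hl
    rw [← hf₀eq]
    exact ⟨algebraMap _ _ (e₀.symm q), (hF _).trans (congrArg f₀ (e₀.apply_symm_apply q))⟩
  rw [SetLike.mem_coe, hrt g]
  refine div_mem (hmem _ fun c hc => Algebra.subset_adjoin ?_) (hmem _ fun c hc => Algebra.subset_adjoin ?_)
  · exact Finset.mem_biUnion.2 ⟨g, hg, Finset.mem_union_left _ hc⟩
  · exact Finset.mem_biUnion.2 ⟨g, hg, Finset.mem_union_right _ hc⟩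

end RosCrossLib

end
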