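import Groth.Agent.RosCrossLib.Generic
import Groth.Agent.RosCrossLib.Model
import Groth.Agent.SimpConnLib.Rational
import Groth.Agent.CurveFFLib.GenEtale

/-!
# Varieties with a nontrivial action of the additive or multiplicative group are birationally ruled
-/

set_option autoImplicit false
set_option linter.all false
set_option backward.isDefEq.respectTransparency false
set_option backward.isDefEq.respectTransparency.types false
set_option maxHeartbeats 1000000

universe u

noncomputable section

open CategoryTheory MonoidalCategory CartesianMonoidalCategory AlgebraicGeometry Limits MonObj GrpObj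
open GaGmFixLib Groth.Agent

namespace RosCrossLib

attribute [-instance] CategoryTheory.Hom.commGroup

variable {k : Type u} [Field k]

local notation "SK" => Spec (CommRingCat.of k)

variable {G X : Over (Spec (CommRingCat.of k))} [GrpObj G] [IsIntegral X.left] [IsSeparated X.hom]
  (a : AlgGrp.Action G X)

/-- if the generic point is fixed, points over algebras are fixed -/
theorem fixed_of_generic {B C R : Type u} [CommRing B] [CommRing C] [CommRing R] [Algebra k B] [Algebra k C]
    [Algebra k R] (bK : B →ₐ[k] Kx X) (xW : P k B ⟶ X) (hxW : PM bK ≫ xW = gen X)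
    (iB : B →ₐ[k] R) (e : R →ₐ[k] RF (Kx X)) (he : Function.Injective e)
    (heB : e.comp iB = (IsScalarTower.toAlgHom k (Kx X) (RF (Kx X))).comp bK)
    (gR : P k R ⟶ G) (gT : P k (RF (Kx X)) ⟶ G) (hgT : PM e ≫ gR = gT)
    (hfix : actPt a gT (PM (IsScalarTower.toAlgHom k (Kx X) (RF (Kx X))) ≫ gen X) =
      PM (IsScalarTower.toAlgHom k (Kx X) (RF (Kx X))) ≫ gen X)
    (hom : B →ₐ[k] C) (g : P k C ⟶ G) (u : R →ₐ[k] C) (hu : u.comp iB = hom) (hug : PM u ≫ gR = g) :
    actPt a g (PM hom ≫ xW) = PM hom ≫ xW := by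
  have key : actPt a gR (PM iB ≫ xW) = PM iB ≫ xW := by
    refine hom_ext_injective e he ?_
    rw [comp_actPt, hgT, ← Category.assoc, ← PM_comp, heB, PM_comp, Category.assoc, hxW]
    exact hfix
  rw [← hug, ← hu, PM_comp, Category.assoc, ← comp_actPt, key]

/-- cross sections for the additive group -/
theorem exists_cross_ga (θ : Red.Ga SK ≅ G) [IsMonHom θ.hom] (ha : a.act ≠ snd G X) :
    ∃ (L : IntermediateField k (Kx X)) (s : Kx X), Transcendental L s ∧ IntermediateField.adjoin L {s} = ⊤ := by
  have hzero : ∀ (A : Type u) [CommRing A] [Algebra k A], gaPt (k := k) (0 : A) ≫ θ.hom = 1 := by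
    intro A _ _
    have h := congrArg (fun z => z ≫ θ.hom) (gaPt_add (k := k) (0 : A) 0)
    simp only [add_zero, MonObj.mul_comp] at h
    exact left_eq_mul.1 h
  obtain ⟨φ, inc, hco, hincX, hφ⟩ := exists_coaction a (0 : Kx X)
    (gaPt (algebraMap (Polynomial (Kx X)) (Localization.AtPrime (RingHom.ker (Polynomial.evalRingHom (0 : Kx X)))) Polynomial.X) ≫ θ.hom)
    (Polynomial.X + Polynomial.C (T (Kx X))) (by rw [Polynomial.natDegree_X_add_C]; exact one_pos)
    (fun ev hev => by rw [← Category.assoc, PM_gaPt, hev]; exact hzero _)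
    (fun u v w hu hv hw => by
      simp only [← Category.assoc, PM_gaPt, hu, hv, hw]
      rw [← MonObj.mul_comp, ← gaPt_add, map_add]
      congr 3)
  refine exists_section_add hco ?_
  by_contra hne
  push Not at hne
  have hcst : φ = IsScalarTower.toAlgHom k (Kx X) (RF (Kx X)) := AlgHom.ext hne
  rw [hcst, ← Category.assoc (PM inc), PM_gaPt, hincX] at hφ
  refine ha (act_eq_snd a fun B C _ _ _ _ bK hinj xW hxW hom g => ?_)
  obtain ⟨c, hc⟩ : ∃ c : C, gaPt c ≫ θ.hom = g := by
    refine ⟨(Scheme.ΓSpecIso (CommRingCat.of C)).hom (Red.gaFn (g ≫ θ.inv)), ?_⟩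
    have h0 : gaPt ((Scheme.ΓSpecIso (CommRingCat.of C)).hom (Red.gaFn (g ≫ θ.inv))) = g ≫ θ.inv := by
      apply Groth.Agent.GaPts.gaFn_injective
      exact (gaFn_gaPt _).trans (Iso.hom_inv_id_apply (Scheme.ΓSpecIso (CommRingCat.of C)) _)
    rw [h0, Category.assoc, Iso.inv_hom_id, Category.comp_id]
  let e : Polynomial B →ₐ[k] RF (Kx X) :=
    (IsScalarTower.toAlgHom k (Polynomial (Kx X)) (RF (Kx X))).comp (Polynomial.mapAlgHom bK)
  let iB : B →ₐ[k] Polynomial B := IsScalarTower.toAlgHom k B (Polynomial B)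
  let u : Polynomial B →ₐ[k] C :=
    { Polynomial.eval₂RingHom hom.toRingHom c with
      commutes' := fun r => by
        change (algebraMap k (Polynomial B) r).eval₂ hom.toRingHom c = _
        rw [IsScalarTower.algebraMap_apply k B (Polynomial B)]
        simp }
  refine fixed_of_generic a bK xW hxW iB e ?_ ?_ (gaPt (Polynomial.X : Polynomial B) ≫ θ.hom) _ ?_ hφ.symm hom g u ?_ ?_
  · exact ι_injective.comp (Polynomial.map_injective _ hinj)
  · refine AlgHom.ext fun b => ?_
    change RosCrossLib.ι ((Polynomial.C b).map bK.toRingHom) = algebraMap (Kx X) (RF (Kx X)) (bK b)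
    rw [Polynomial.map_C, ι_C]; rfl
  · rw [← Category.assoc, PM_gaPt]
    congr 2
    exact congrArg RosCrossLib.ι (Polynomial.map_X _)
  · refine AlgHom.ext fun b => ?_
    change (Polynomial.C b).eval₂ hom.toRingHom c = hom b
    simp
  · rw [← Category.assoc, PM_gaPt, ← hc]
    congr 2
    exact Polynomial.eval₂_X _ _

/-- cross sections for the multiplicative group -/
theorem exists_cross_gm (θ : Red.Gm SK ≅ G) [IsMonHom θ.hom] (ha : a.act ≠ snd G X) :
    ∃ (L : IntermediateField k (Kx X)) (s : Kx X), Transcendental L s ∧ IntermediateField.adjoin L {s} = ⊤ := by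
  have hone : ∀ (A : Type u) [CommRing A] [Algebra k A], gmPt (k := k) (1 : Aˣ) ≫ θ.hom = 1 := by
    intro A _ _
    have h := congrArg (fun z => z ≫ θ.hom) (gmPt_mul (k := k) (1 : Aˣ) 1)
    simp only [_root_.mul_one, MonObj.mul_comp] at h
    exact left_eq_mul.1 h
  have hX : (Polynomial.X : Polynomial (Kx X)) ∈ (RingHom.ker (Polynomial.evalRingHom (1 : Kx X))).primeCompl := by
    intro h
    rw [SetLike.mem_coe, RingHom.mem_ker] at h
    simp at h
  obtain ⟨x, hx⟩ : ∃ x : (Localization.AtPrime (RingHom.ker (Polynomial.evalRingHom (1 : Kx X))))ˣ, (x : (Localization.AtPrime (RingHom.ker (Polynomial.evalRingHom (1 : Kx X))))) = algebraMap (Polynomial (Kx X)) (Localization.AtPrime (RingHom.ker (Polynomial.evalRingHom (1 : Kx X)))) Polynomial.X :=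
    IsLocalization.map_units (Localization.AtPrime (RingHom.ker (Polynomial.evalRingHom (1 : Kx X)))) ⟨_, hX⟩
  obtain ⟨φ, inc, hco, hincX, hφ⟩ := exists_coaction a (1 : Kx X) (gmPt x ≫ θ.hom)
    (Polynomial.C (T (Kx X)) * Polynomial.X) (by
      rw [Polynomial.natDegree_C_mul_X _ (fun e => Polynomial.X_ne_zero (R := Kx X)
        (ι_injective (e.trans (map_zero _).symm)))]
      exact one_pos)
    (fun ev hev => by
      rw [← Category.assoc, PM_gmPt, show Units.map (ev : (Localization.AtPrime (RingHom.ker (Polynomial.evalRingHom (1 : Kx X)))) →* Kx X) x = 1 from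
        Units.ext (by simp [hx, hev])]
      exact hone _)
    (fun u v w hu hv hw => by
      simp only [← Category.assoc, PM_gmPt]
      rw [← MonObj.mul_comp, ← gmPt_mul]
      congr 2
      refine Units.ext ?_
      simp only [Units.coe_map, MonoidHom.coe_coe, Units.val_mul, hx, hu, hv, hw, map_mul]
      rw [mul_comm]
      congr 1)
  refine exists_section_mul hco ?_
  by_contra hne
  push Not at hne
  have hcst : φ = IsScalarTower.toAlgHom k (Kx X) (RF (Kx X)) := AlgHom.ext hne
  rw [hcst, ← Category.assoc (PM inc), PM_gmPt] at hφ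
  refine ha (act_eq_snd a fun B C _ _ _ _ bK hinj xW hxW hom g => ?_)
  obtain ⟨c, hc⟩ : ∃ c : Cˣ, gmPt c ≫ θ.hom = g := by
    obtain ⟨v, hv⟩ : ∃ v, v = Units.map (Scheme.ΓSpecIso (CommRingCat.of C)).hom.hom.toMonoidHom
        (GmPts.unitOfPt (g ≫ θ.inv)) := ⟨_, rfl⟩
    refine ⟨v, ?_⟩
    have h0 : gmPt v = g ≫ θ.inv := by
      apply unitOfPt_injective
      refine (unitOfPt_gmPt v).trans (Units.ext ?_)
      rw [hv]
      exact Iso.hom_inv_id_apply (Scheme.ΓSpecIso (CommRingCat.of C)) _
    rw [h0, Category.assoc, Iso.inv_hom_id, Category.comp_id]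
  let R := Localization.Away (Polynomial.X : Polynomial B)
  let f₀ : Polynomial B →ₐ[k] RF (Kx X) :=
    (IsScalarTower.toAlgHom k (Polynomial (Kx X)) (RF (Kx X))).comp (Polynomial.mapAlgHom bK)
  have hf₀ : Function.Injective f₀ := ι_injective.comp (Polynomial.map_injective _ hinj)
  have hTne : f₀ Polynomial.X ≠ 0 := fun e =>
    Polynomial.X_ne_zero (R := Kx X) (by
      have := ι_injective (e.trans (map_zero _).symm)
      rwa [← Polynomial.map_X bK.toRingHom])
  let e : R →ₐ[k] RF (Kx X) := IsLocalization.liftAlgHom (M := Submonoid.powers (Polynomial.X : Polynomial B))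
    (f := f₀) (by
      rintro ⟨_, n, rfl⟩
      rw [map_pow]
      exact (isUnit_iff_ne_zero.2 hTne).pow n)
  have heq : ∀ q, e (algebraMap (Polynomial B) R q) = f₀ q := fun q => IsLocalization.lift_eq _ _
  have he : Function.Injective e := by
    rw [injective_iff_map_eq_zero]
    intro z hz
    obtain ⟨q, d, rfl⟩ := IsLocalization.exists_mk'_eq (Submonoid.powers (Polynomial.X : Polynomial B)) z
    have h2 := congrArg e (IsLocalization.mk'_spec R q d)
    rw [map_mul, hz, zero_mul, heq] at h2
    rw [show q = 0 from hf₀ (h2.symm.trans (map_zero _).symm), IsLocalization.mk'_zero]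
  let iB : B →ₐ[k] R := (IsScalarTower.toAlgHom k (Polynomial B) R).comp (IsScalarTower.toAlgHom k B (Polynomial B))
  let u₀ : Polynomial B →ₐ[k] C :=
    { Polynomial.eval₂RingHom hom.toRingHom (c : C) with
      commutes' := fun r => by
        change (algebraMap k (Polynomial B) r).eval₂ hom.toRingHom (c : C) = _
        rw [IsScalarTower.algebraMap_apply k B (Polynomial B)]
        simp }
  have hu₀ : u₀ Polynomial.X = c := Polynomial.eval₂_X _ _
  let u : R →ₐ[k] C := IsLocalization.liftAlgHom (M := Submonoid.powers (Polynomial.X : Polynomial B))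
    (f := u₀) (by
      rintro ⟨_, n, rfl⟩
      rw [map_pow, hu₀]
      exact c.isUnit.pow n)
  have hueq : ∀ q, u (algebraMap (Polynomial B) R q) = u₀ q := fun q => IsLocalization.lift_eq _ _
  obtain ⟨z, hz⟩ : ∃ z : Rˣ, (z : R) = algebraMap (Polynomial B) R Polynomial.X :=
    IsLocalization.map_units R (⟨_, Submonoid.mem_powers _⟩ : Submonoid.powers (Polynomial.X : Polynomial B))
  refine fixed_of_generic a bK xW hxW iB e he ?_ (gmPt z ≫ θ.hom) _ ?_ hφ.symm hom g u ?_ ?_
  · refine AlgHom.ext fun b => ?_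
    change e (algebraMap (Polynomial B) R (Polynomial.C b)) = algebraMap (Kx X) (RF (Kx X)) (bK b)
    rw [heq]
    change RosCrossLib.ι ((Polynomial.C b).map bK.toRingHom) = _
    rw [Polynomial.map_C, ι_C]; rfl
  · rw [← Category.assoc, PM_gmPt]
    congr 2
    refine Units.ext ?_
    simp only [Units.coe_map, MonoidHom.coe_coe, hz, heq, hx, hincX]
    exact congrArg RosCrossLib.ι (Polynomial.map_X _)
  · refine AlgHom.ext fun b => ?_
    change u (algebraMap (Polynomial B) R (Polynomial.C b)) = hom b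
    rw [hueq]
    change (Polynomial.C b).eval₂ hom.toRingHom (c : C) = hom b
    simp
  · rw [← Category.assoc, PM_gmPt, ← hc]
    congr 2
    refine Units.ext ?_
    simp only [Units.coe_map, MonoidHom.coe_coe, hz, hueq, hu₀]

omit [IsSeparated X.hom] in
/-- the birational model -/
theorem exists_birational [LocallyOfFiniteType X.hom] (L : IntermediateField k (Kx X)) (s : Kx X)
    (hs : Transcendental L s) (htop : IntermediateField.adjoin L {s} = ⊤) :
    ∃ (Y : Over SK) (_ : IsIntegral Y.left) (_ : LocallyOfFiniteType Y.hom)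
      (U : X.left.Opens) (V : (𝔸(ULift.{u} (Fin 1); Y.left)).Opens), (U : Set X.left).Nonempty ∧
      Nonempty (Over.mk (U.ι ≫ X.hom) ≅
        Over.mk (V.ι ≫ (𝔸(ULift.{u} (Fin 1); Y.left) ↘ Y.left) ≫ Y.hom)) := by
  letI hov : X.left.Over (Spec (CommRingCat.of k)) := ⟨X.hom⟩
  haveI : LocallyOfFiniteType (X.left ↘ Spec (CommRingCat.of k)) := ‹LocallyOfFiniteType X.hom›
  haveI : Algebra.EssFiniteType k (Kx X) := CurveFFLib.essFiniteType_functionField (k := k) (X := X.left)
  obtain ⟨A, _, _, _, _, ⟨e⟩⟩ := exists_algebra_model L s hs htop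
  let Y : Over SK := Over.mk (Spec.map (CommRingCat.ofHom (algebraMap k A)))
  haveI : IsIntegral Y.left := inferInstanceAs (IsIntegral (Spec (CommRingCat.of A)))
  haveI : LocallyOfFiniteType Y.hom :=
    (HasRingHomProperty.Spec_iff (P := @LocallyOfFiniteType)).2 (RingHom.finiteType_algebraMap.2 inferInstance)
  let R := MvPolynomial (ULift.{u} (Fin 1)) A
  let P' := 𝔸(ULift.{u} (Fin 1); Spec (CommRingCat.of A))
  let p : P' ⟶ Spec (CommRingCat.of k) := (P' ↘ Spec (CommRingCat.of A)) ≫ Spec.map (CommRingCat.ofHom (algebraMap k A))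
  haveI : LocallyOfFiniteType p := by
    haveI : LocallyOfFiniteType (P' ↘ Spec (CommRingCat.of A)) := inferInstance
    haveI : LocallyOfFiniteType (Spec.map (CommRingCat.ofHom (algebraMap k A))) := ‹LocallyOfFiniteType Y.hom›
    infer_instance
  haveI : IsIntegral P' := inferInstance
  have hb := SimpConnLib.birationalOver_of_algEquiv (k := k) (X := X.left) p R
    (AffineSpace.SpecIso (ULift.{u} (Fin 1)) (CommRingCat.of A)).inv (by
      simp only [p, ← Category.assoc]
      rw [AffineSpace.SpecIso_inv_over, ← Spec.map_comp, ← CommRingCat.ofHom_comp]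
      rfl) e
  obtain ⟨Φ, hΦ⟩ := hb
  refine ⟨Y, inferInstance, inferInstance, Φ.source, Φ.target, ?_, ⟨Over.isoMk Φ.iso ?_⟩⟩
  · haveI : Nonempty ↥X.left := inferInstance
    exact Φ.dense_source.nonempty
  · exact hΦ

end RosCrossLib

end
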